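import Cfsg.Agent.H24.M12.Cls
import Cfsg.Agent.H777.Ore.Base
import Cfsg.Agent.H51.Mult
import Cfsg.Agent.S2035
import Cfsg.Agent.H6.QO.Frame

/-!
# The double cover of `M₁₂`: every element is a commutator (helper109, S2491/S2492 row E1)

`Γ = 2.M₁₂` the group of signed permutations of helper932, every element of which is conjugate to one of 30 words
(helper24); each of the words is a commutator of words, equality of words is a Boolean test.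
-/

set_option autoImplicit false
set_option maxRecDepth 100000

namespace Cfsg.Agent.H109.QO.MTwelve

open Cfsg Cfsg.Agent.H932.Mt Cfsg.Agent.H24.M12
open Cfsg.Agent.H777.Ore (IsC AllC)
open Cfsg.Agent.H51.Mult (PCE)

/-- commutators equal to the representatives -/
def PA : List (List ℕ × List ℕ) := [
  ([], []),
  ([0, 1, 2, 2, 1, 2, 2, 1, 0, 0, 0], [2, 1, 0, 0, 1, 0]),
  ([1], [2]),
  ([2, 2, 2, 2, 2, 1], [0, 1, 0, 0, 1, 2, 2, 1, 2]),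
  ([0, 1, 2, 1], [0, 0, 1, 0, 1, 0, 1, 0]),
  ([0, 0, 1, 0, 0, 1, 2, 1, 2, 1, 2], [1, 2, 1]),
  ([1, 0, 1], [0, 0, 1, 0, 1, 2, 2, 2, 1, 2]),
  ([1, 2, 2, 1, 2, 1, 0, 1], [0, 1, 0, 0]),
  ([2, 2, 2, 2, 1, 2, 1, 2, 1, 0, 0], [1, 2, 1, 2]),
  ([2, 1, 0, 1, 0, 0, 0, 0, 0], [0, 1, 0, 1]),
  ([1, 0, 1, 2, 1, 0, 0, 0], [0, 0, 1, 0, 1, 2, 2]),
  ([1, 0, 1, 0, 1, 2, 2, 1, 2, 1, 2, 1, 2], [1, 0]),
  ([1, 2, 1, 2, 1, 0, 0, 1, 0, 1, 0, 1, 0], [1, 2]),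
  ([0, 1, 2, 2, 2, 1, 2, 1], [0, 1, 0, 1, 0, 1]),
  ([1, 2, 1, 0, 1, 0, 0, 0], [0, 0, 1, 0, 1, 2])]

/-- commutators equal to the negatives of the representatives -/
def PB : List (List ℕ × List ℕ) := [
  ([1, 2, 1, 0, 0, 1, 2, 2, 2, 1, 2, 1, 0, 1, 0], [1, 0, 0, 0, 0]),
  ([0, 1, 2, 1, 2, 2, 1, 0, 1], [0, 0]),
  ([0, 1, 2, 2, 2, 1, 2, 1, 0, 1, 0, 1], [0, 1, 0]),
  ([0, 0, 1, 0, 1, 0, 1, 0, 0, 1, 0], [1, 2]),
  ([0, 0, 1, 0, 1, 0, 1, 0], [0, 1, 2, 1]),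
  ([2, 1, 0, 1, 2, 2, 2], [0, 1, 0, 1, 0, 0]),
  ([2, 1, 2, 2, 2, 2], [2, 2, 1, 0, 1, 2, 2, 1]),
  ([2, 1, 2, 1, 0, 0], [1, 0, 0, 1, 2, 2, 2, 1, 0]),
  ([1, 0, 1, 0, 0, 1], [1, 0, 1, 0, 0]),
  ([0, 0, 0, 1, 0, 1, 0, 0, 1, 2], [0, 0, 0, 1, 0, 0, 1]),
  ([1, 2, 1, 2, 2, 1], [2, 1, 0, 0, 0, 1, 2, 1, 2]),
  ([2, 2, 2, 1, 2, 1, 0], [0, 0, 1, 0, 1]),
  ([0, 0, 0, 1, 0, 1, 2], [2, 2, 1, 2, 1]),
  ([0, 1, 2, 1, 2, 1, 2, 2, 1, 0, 0, 1], [0, 1, 2, 2]),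
  ([0, 1, 2, 1, 2, 2, 2, 2], [1, 0, 0, 1, 0, 0, 1, 0, 0])]

def gp (P : List (List ℕ × List ℕ)) (j : ℕ) : List ℕ × List ℕ := P.getD j ([], [])

/-- the word of a commutator -/
def cw (p : List ℕ × List ℕ) : List ℕ := p.1 ++ (p.2 ++ (iw p.1 ++ iw p.2))

theorem chkA : ∀ k < 15, eqw (RW k) (cw (gp PA k)) = true := by decide +kernel

theorem chkB : ∀ k < 15, eqw (nw ++ RW k) (cw (gp PB k)) = true := by decide +kernel

theorem isC_cw (p : List ℕ × List ℕ) : IsC (el (cw p)) := by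
  refine ⟨el p.1, el p.2, ?_⟩
  unfold cw
  rw [el_append, el_append, el_append, el_iw, el_iw, ← mul_assoc, ← mul_assoc]

theorem isC_rp (k : Fin 15) : IsC (H24.M12.rp k) := by
  have h := el_eq (chkA k k.2)
  unfold H24.M12.rp
  rw [h]
  exact isC_cw _

theorem isC_neg_rp (k : Fin 15) : IsC (neg * H24.M12.rp k) := by
  have h := el_eq (chkB k k.2)
  rw [el_append, el_nw] at h
  unfold H24.M12.rp
  rw [h]
  exact isC_cw _

theorem isC_conj {G : Type*} [Group G] {g h : G} (hc : IsConj g h) (hh : IsC h) : IsC g := by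
  obtain ⟨c, rfl⟩ := isConj_iff.1 hc
  obtain ⟨a, b, hab⟩ := hh
  refine ⟨c⁻¹ * a * c, c⁻¹ * b * c, ?_⟩
  have h5 : g = c⁻¹ * (c * g * c⁻¹) * c := by group
  rw [h5, hab]
  group

/-- **every element of `2.M₁₂` is a commutator** -/
theorem allC_Gam : AllC Γ := by
  intro g
  obtain ⟨k, h | h⟩ := classes g
  · exact isC_conj h (isC_rp k)
  · exact isC_conj h (isC_neg_rp k)

theorem perfect : commutator Γ = ⊤ := by
  rw [eq_top_iff]
  intro u _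
  obtain ⟨a, b, hab⟩ := allC_Gam u
  rw [hab, ← commutatorElement_def]
  exact Subgroup.commutator_mem_commutator (Subgroup.mem_top _) (Subgroup.mem_top _)

theorem pce_sig : PCE sig where
  surj := sig_surjective
  cen := by
    intro u hu
    rw [Subgroup.mem_center_iff]
    intro v
    rcases eq_of_sig hu with rfl | rfl
    · rw [mul_one, one_mul]
    · exact (neg_comm v).symm
  perf := perfect

theorem card_ker : Nat.card sig.ker = 2 := by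
  have h1 : (sig.ker : Set Γ) = {1, neg} := by
    ext z
    rw [SetLike.mem_coe, MonoidHom.mem_ker, Set.mem_insert_iff, Set.mem_singleton_iff]
    constructor
    · exact fun hz => eq_of_sig hz
    · rintro (rfl | rfl)
      · exact map_one _
      · exact sig_neg
  have h2 : Nat.card sig.ker = (sig.ker : Set Γ).ncard := rfl
  rw [h2, h1, Set.ncard_pair neg_ne_one.symm]

/-- **row E1: `2.M₁₂`** -/
theorem row_m12 {K : Type*} [Group K] (h : Spor.IsoM12 K) : H6.QO.RowA K := by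
  obtain ⟨e⟩ := h
  refine H6.QO.RowA.congr (H6.QO.RowA.of_univ S2035.result pce_sig ?_ allC_Gam) e.symm
  rw [card_ker, Nat.card_congr Multiplicative.toAdd, Nat.card_zmod]

end Cfsg.Agent.H109.QO.MTwelve
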